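import Groth.Agent.HenselSec.FiniteEtalePoint
import Groth.Agent.RG.SepPoint
import Groth.Agent.Hensel.Smooth
import Mathlib.RingTheory.RingHom.StandardSmooth
import Mathlib.RingTheory.Smooth.StandardSmooth
import Mathlib.FieldTheory.IntermediateField.Adjoin.Basic

/-!
# A smooth algebra over a henselian local ring has a point in a finite étale algebra
-/

set_option autoImplicit false
set_option linter.style.haveILetI false
set_option backward.isDefEq.respectTransparency false

universe u

open TensorProduct

namespace Groth.Agent.HenselSec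

/-- A standard smooth algebra with non-empty closed fibre over a henselian local ring has a point with values in a
finite étale algebra. -/
theorem exists_finite_etale_algHom (A : Type u) [CommRing A] [HenselianLocalRing A] (C : Type u) [CommRing C]
    [Algebra A C] [Algebra.IsStandardSmooth A C] (q : Ideal C) [q.IsPrime]
    (hq : q.comap (algebraMap A C) = IsLocalRing.maximalIdeal A) :
    ∃ (A' : Type u) (_ : CommRing A') (_ : Algebra A A'),
      Module.Finite A A' ∧ Algebra.Etale A A' ∧ Nontrivial A' ∧ Nonempty (C →ₐ[A] A') := by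
  classical
  let k := IsLocalRing.ResidueField A
  let C₀ := k ⊗[A] C
  haveI : Nontrivial C₀ := by
    let L := q.ResidueField
    let qk : k →+* L := Ideal.Quotient.lift _ (algebraMap A L) fun a ha => by
      rw [IsScalarTower.algebraMap_apply A C L]
      rw [Ideal.algebraMap_residueField_eq_zero]
      exact Ideal.mem_comap.1 (hq.symm ▸ ha)
    let qk' : k →ₐ[A] L := { qk with commutes' := fun a => Ideal.Quotient.lift_mk _ _ _ }
    let qC : C →ₐ[A] L := IsScalarTower.toAlgHom A C L
    exact RingHom.domain_nontrivial (Algebra.TensorProduct.lift qk' qC fun _ _ => Commute.all _ _).toRingHom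
  obtain ⟨n, g, hgC, hgE⟩ := RingHom.IsStandardSmooth.exists_etale_mvPolynomial
    ((RingHom.isStandardSmooth_algebraMap (R := k) (S := C₀)).2 inferInstance)
  letI : Algebra (MvPolynomial (Fin n) k) C₀ := g.toAlgebra
  haveI : IsScalarTower k (MvPolynomial (Fin n) k) C₀ :=
    IsScalarTower.of_algebraMap_eq fun x => (RingHom.congr_fun hgC x).symm
  haveI : Algebra.Etale (MvPolynomial (Fin n) k) C₀ := hgE
  obtain ⟨χ, -⟩ := RG.exists_sep_point (k := k) (n := n) (C := C₀) (h := 1) not_isNilpotent_one
  let K := SeparableClosure k
  obtain ⟨G, hG⟩ := (Algebra.FiniteType.out : (⊤ : Subalgebra k C₀).FG)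
  let F : IntermediateField k K := IntermediateField.adjoin k ((fun g => χ g) '' (G : Set C₀))
  haveI : Finite ((fun g => χ g) '' (G : Set C₀) : Set K) := (G.finite_toSet.image _).to_subtype
  haveI : FiniteDimensional k F := IntermediateField.finiteDimensional_adjoin fun x _ =>
    (Algebra.IsSeparable.isSeparable k x).isIntegral
  have hmem : ∀ p, χ p ∈ F.toSubalgebra := by
    intro p
    have hp : p ∈ Algebra.adjoin k (G : Set C₀) := by rw [hG]; trivial
    induction hp using Algebra.adjoin_induction with
    | mem g hg => exact IntermediateField.subset_adjoin k _ ⟨g, hg, rfl⟩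
    | algebraMap c => rw [χ.commutes]; exact F.algebraMap_mem _
    | add a b _ _ ha hb => rw [map_add]; exact add_mem ha hb
    | mul a b _ _ ha hb => rw [map_mul]; exact mul_mem ha hb
  letI : Algebra A F := ((algebraMap k F).comp (IsLocalRing.residue A)).toAlgebra
  haveI : IsScalarTower A k F := IsScalarTower.of_algebraMap_eq fun _ => rfl
  haveI : Algebra.IsSeparable k F := Algebra.isSeparable_tower_bot_of_isSeparable k F K
  obtain ⟨A', _, _, _, π, hfin, het, hπ⟩ := exists_finite_etale_point A F
  haveI : (RingHom.ker π.toRingHom).IsMaximal := RingHom.ker_isMaximal_of_surjective _ hπ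
  have hker : RingHom.ker π.toRingHom = IsLocalRing.maximalIdeal A' :=
    IsLocalRing.eq_maximalIdeal (I := RingHom.ker π.toRingHom) inferInstance
  haveI : HenselianRing A' (RingHom.ker π) := (hker ▸ (inferInstance : HenselianRing A' (IsLocalRing.maximalIdeal A')) :
    HenselianRing A' (RingHom.ker π.toRingHom))
  let χF : C₀ →ₐ[k] F := χ.codRestrict F.toSubalgebra hmem
  let qC : C →ₐ[A] A' ⧸ RingHom.ker π :=
    ((Ideal.quotientKerAlgEquivOfSurjective hπ).symm.toAlgHom.comp (χF.restrictScalars A)).comp
      Algebra.TensorProduct.includeRight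
  let σ : A' ⊗[A] C →ₐ[A'] A' ⧸ RingHom.ker π :=
    Algebra.TensorProduct.lift (Algebra.ofId A' (A' ⧸ RingHom.ker π)) qC fun _ _ => Commute.all _ _
  obtain ⟨τ, -⟩ := Hensel.exists_smooth_lift (A' ⊗[A] C) σ
  exact ⟨A', inferInstance, inferInstance, hfin, het, inferInstance,
    ⟨(τ.restrictScalars A).comp Algebra.TensorProduct.includeRight⟩⟩

end Groth.Agent.HenselSec
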