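import Groth.Agent.Hensel.FiniteEtale
import Groth.Agent.Hensel.Local
import Mathlib.RingTheory.LocalRing.Module
import Mathlib.LinearAlgebra.TensorProduct.RightExactness

/-!
# Finite étale lifting of separable residue extensions over a henselian local ring
-/

set_option autoImplicit false
set_option linter.style.haveILetI false
set_option backward.isDefEq.respectTransparency false

universe u

open TensorProduct

namespace Groth.Agent.HenselSec

theorem exists_finite_etale_point (A : Type u) [CommRing A] [HenselianLocalRing A]
    (L : Type u) [Field L] [Algebra (IsLocalRing.ResidueField A) L] [Algebra A L]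
    [IsScalarTower A (IsLocalRing.ResidueField A) L] [Module.Finite (IsLocalRing.ResidueField A) L]
    [Algebra.IsSeparable (IsLocalRing.ResidueField A) L] :
    ∃ (A' : Type u) (_ : CommRing A') (_ : Algebra A A') (_ : HenselianLocalRing A') (π : A' →ₐ[A] L),
      Module.Finite A A' ∧ Algebra.Etale A A' ∧ Function.Surjective π := by
  haveI : Algebra.Etale (IsLocalRing.ResidueField A) L :=
    ⟨Algebra.FormallyEtale.of_isSeparable _ L, Algebra.FinitePresentation.of_finiteType.1 inferInstance⟩
  obtain ⟨A', _, _, _, _, ⟨e⟩⟩ := Hensel.exists_finite_etale_lift A L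
  let π : A' →ₐ[A] L := (e.toAlgHom.restrictScalars A).comp Algebra.TensorProduct.includeRight
  have hinc : Function.Surjective (Algebra.TensorProduct.includeRight : A' →ₐ[A] IsLocalRing.ResidueField A ⊗[A] A') := by
    intro z
    induction z using TensorProduct.induction_on with
    | zero => exact ⟨0, map_zero _⟩
    | tmul a b =>
      obtain ⟨a, rfl⟩ := IsLocalRing.residue_surjective a
      refine ⟨a • b, ?_⟩
      rw [map_smul, Algebra.TensorProduct.includeRight_apply, smul_tmul']
      congr 1
      rw [Algebra.smul_def, mul_one]
      rfl
    | add x y hx hy =>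
      obtain ⟨a, rfl⟩ := hx
      obtain ⟨b, rfl⟩ := hy
      exact ⟨a + b, map_add _ _ _⟩
  have hπ : Function.Surjective π := e.surjective.comp hinc
  haveI : (RingHom.ker π.toRingHom).IsMaximal := RingHom.ker_isMaximal_of_surjective _ hπ
  haveI : IsLocalRing A' := by
    refine IsLocalRing.of_unique_max_ideal ⟨RingHom.ker π.toRingHom, inferInstance, fun M hM => ?_⟩
    refine (Ideal.IsMaximal.eq_of_le inferInstance hM.ne_top ?_).symm
    haveI : Algebra.IsIntegral A A' := Algebra.IsIntegral.of_finite A A'
    haveI := hM
    haveI : (M.comap (algebraMap A A')).IsMaximal := Ideal.isMaximal_comap_of_isIntegral_of_isMaximal M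
    intro x hx
    have hx' : (1 : IsLocalRing.ResidueField A) ⊗ₜ[A] x = 0 :=
      e.injective (by rw [map_zero]; exact RingHom.mem_ker.1 hx)
    have := (rTensor_exact A'
      (LinearMap.exact_subtype_mkQ (IsLocalRing.maximalIdeal A)) (Submodule.mkQ_surjective _) (1 ⊗ₜ x)).1 hx'
    obtain ⟨z, hz⟩ := this
    have hz' := congrArg (TensorProduct.lid A A') hz
    rw [TensorProduct.lid_tmul, one_smul] at hz'
    rw [← hz']
    clear hz hz'
    induction z using TensorProduct.induction_on with
    | zero => simp
    | tmul a b =>
      simp only [LinearMap.rTensor_tmul, Submodule.coe_subtype, TensorProduct.lid_tmul, Algebra.smul_def]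
      refine M.mul_mem_right _ ?_
      have := IsLocalRing.eq_maximalIdeal (inferInstance : (M.comap (algebraMap A A')).IsMaximal)
      exact Ideal.mem_comap.1 (SetLike.ext_iff.1 this (a : A) |>.2 a.2)
    | add x y hx hy => simp only [map_add]; exact add_mem hx hy
  haveI : HenselianLocalRing A' := Hensel.henselianLocalRing_finite A A'
  haveI : Module.FinitePresentation A A' := Module.FinitePresentation.of_finite_of_finitePresentation A A'
  exact ⟨A', inferInstance, inferInstance, inferInstance, π, inferInstance, inferInstance, hπ⟩

end Groth.Agent.HenselSec
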